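import Groth.Prelude.Def_Biext
import Mathlib.CategoryTheory.Sites.LocallySurjective
import Mathlib.CategoryTheory.Sites.EpiMono

/-!
# Triviality of a biextension detected after pull-back by integers, for divisible sheaves
-/

set_option autoImplicit false
set_option backward.isDefEq.respectTransparency false

universe u

open CategoryTheory Opposite

noncomputable section

namespace Groth.Agent.BiextDivLib

variable {C : Type (u + 1)} [Category.{u} C] {J : GrothendieckTopology C}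
  {P Q G : Sheaf J AddCommGrpCat.{u + 1}}

/-- Every section is locally divisible by `n`. -/
def LocDiv (F : Sheaf J AddCommGrpCat.{u + 1}) (n : ℤ) : Prop :=
  ∀ (T : C) (p : F.obj.obj (op T)), ∃ R ∈ J T, ∀ ⦃T' : C⦄ (f : T' ⟶ T), R f →
    ∃ p' : F.obj.obj (op T'), n • p' = F.obj.map f.op p

theorem zsmul_hom_app {F F' : Sheaf J AddCommGrpCat.{u + 1}} (φ : F ⟶ F') (n : ℤ) (T : C) (x : F.obj.obj (op T)) :
    (n • φ).hom.app (op T) x = n • φ.hom.app (op T) x := by
  let ev : (F ⟶ F') →+ (F.obj.obj (op T) →+ F'.obj.obj (op T)) :=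
    AddMonoidHom.mk' (fun ψ => (ψ.hom.app (op T)).hom) (fun _ _ => rfl)
  exact DFunLike.congr_fun (map_zsmul ev n φ) x

theorem sep_zero {F : Sheaf J AddCommGrpCat.{u + 1}} {T : C} {R : Sieve T} (hR : R ∈ J T) {a b : F.obj.obj (op T)}
    (h : ∀ ⦃T' : C⦄ (f : T' ⟶ T), R f → F.obj.map f.op a = F.obj.map f.op b) : a = b :=
  (((isSheaf_iff_isSheaf_of_type J _).1 (Biext.uSh J F).property) R hR).isSeparatedFor.ext fun _ f hf => h f hf

theorem sep_E (B : Biext J P Q G) {T : C} {R : Sieve T} (hR : R ∈ J T) {a b : B.E.obj.obj (op T)}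
    (h : ∀ ⦃T' : C⦄ (f : T' ⟶ T), R f → B.E.obj.map f.op a = B.E.obj.map f.op b) : a = b :=
  (((isSheaf_iff_isSheaf_of_type J _).1 B.E.property) R hR).isSeparatedFor.ext fun _ f hf => h f hf

section Pair

variable (n m : ℤ) (B B' : Biext J P Q G) (φ : Biext.HomOver J (n • 𝟙 P) (m • 𝟙 Q) (𝟙 G) B' B)
  (σ' : Biext.Splitting J B')

/-- The image in `B` of the splitting of `B'`. -/
def w (T : C) (p : P.obj.obj (op T)) (q : Q.obj.obj (op T)) : B.E.obj.obj (op T) := φ.map T (σ'.σ T p q)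

theorem πP_w {T : C} (p : P.obj.obj (op T)) (q : Q.obj.obj (op T)) : B.πP T (w n m B B' φ σ' T p q) = n • p := by
  rw [w, φ.πP_map, σ'.πP_σ, zsmul_hom_app]
  rfl

theorem πQ_w {T : C} (p : P.obj.obj (op T)) (q : Q.obj.obj (op T)) : B.πQ T (w n m B B' φ σ' T p q) = m • q := by
  rw [w, φ.πQ_map, σ'.πQ_σ, zsmul_hom_app]
  rfl

theorem w_map {T T' : C} (f : T' ⟶ T) (p : P.obj.obj (op T)) (q : Q.obj.obj (op T)) :
    B.E.obj.map f.op (w n m B B' φ σ' T p q) = w n m B B' φ σ' T' (P.obj.map f.op p) (Q.obj.map f.op q) := by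
  rw [w, w, ← φ.map_res, σ'.σ_map]

theorem w_add₁ {T : C} (p p' : P.obj.obj (op T)) (q : Q.obj.obj (op T))
    (h : B.πQ T (w n m B B' φ σ' T p q) = B.πQ T (w n m B B' φ σ' T p' q)) :
    w n m B B' φ σ' T (p + p') q = B.add₁ T (w n m B B' φ σ' T p q) (w n m B B' φ σ' T p' q) h := by
  show φ.map T (σ'.σ T (p + p') q) = _
  rw [σ'.σ_add₁, φ.map_add₁]
  rfl

theorem w_add₂ {T : C} (p : P.obj.obj (op T)) (q q' : Q.obj.obj (op T))
    (h : B.πP T (w n m B B' φ σ' T p q) = B.πP T (w n m B B' φ σ' T p q')) :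
    w n m B B' φ σ' T p (q + q') = B.add₂ T (w n m B B' φ σ' T p q) (w n m B B' φ σ' T p q') h := by
  show φ.map T (σ'.σ T p (q + q')) = _
  rw [σ'.σ_add₂, φ.map_add₂]
  rfl

theorem add₁_congr {T : C} {a a' b b' : B.E.obj.obj (op T)} (ha : a = a') (hb : b = b')
    (h : B.πQ T a = B.πQ T b) (h' : B.πQ T a' = B.πQ T b') : B.add₁ T a b h = B.add₁ T a' b' h' := by
  subst ha hb; rfl

theorem add₂_congr {T : C} {a a' b b' : B.E.obj.obj (op T)} (ha : a = a') (hb : b = b')
    (h : B.πP T a = B.πP T b) (h' : B.πP T a' = B.πP T b') : B.add₂ T a b h = B.add₂ T a' b' h' := by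
  subst ha hb; rfl

theorem act_inj {T : C} {g g' : G.obj.obj (op T)} {x : B.E.obj.obj (op T)} (h : B.act T g x = B.act T g' x) : g = g' :=
  (B.existsUnique_act T x (B.act T g' x) (B.πP_act T g' x).symm (B.πQ_act T g' x).symm).unique h rfl

include σ' in
/-- Changing `p'` by an element killed by `n` does not change `w`. -/
theorem indep_left (hQ : LocDiv Q n) {T : C} (p a : P.obj.obj (op T)) (q : Q.obj.obj (op T)) (ha : n • a = 0) :
    w n m B B' φ σ' T (p + a) q = w n m B B' φ σ' T p q := by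
  let W := w n m B B' φ σ'
  -- the difference of `w (a, q)` and `w (0, q)`
  have hD : ∀ {T : C} (a : P.obj.obj (op T)) (q : Q.obj.obj (op T)), n • a = 0 →
      ∃! g : G.obj.obj (op T), B.act T g (W T 0 q) = W T a q := fun {T} a q ha =>
    B.existsUnique_act T _ _ (by rw [πP_w, πP_w, smul_zero, ha]) (by rw [πQ_w, πQ_w])
  have hshift : ∀ {T : C} (p a : P.obj.obj (op T)) (q : Q.obj.obj (op T)) (g : G.obj.obj (op T)),
      B.act T g (W T 0 q) = W T a q → B.act T g (W T p q) = W T (p + a) q := by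
    intro T p a q g hg
    have h0 : B.πQ T (W T p q) = B.πQ T (W T 0 q) := by rw [πQ_w, πQ_w]
    have h1 : B.πQ T (W T p q) = B.πQ T (W T a q) := by rw [πQ_w, πQ_w]
    have hh : B.πQ T (B.act T g (W T 0 q)) = B.πQ T (W T p q) := (B.πQ_act T g _).trans h0.symm
    rw [show W T (p + a) q = B.add₁ T (W T p q) (W T a q) h1 from w_add₁ n m B B' φ σ' p a q h1,
      add₁_congr B rfl hg.symm h1 hh.symm, B.add₁_comm T (W T p q) _ hh.symm, B.add₁_act T g (W T 0 q) (W T p q) h0.symm,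
      ← w_add₁ n m B B' φ σ' 0 p q h0.symm, zero_add]
  suffices h : B.act T 0 (W T 0 q) = W T a q by
    have := hshift p a q 0 h
    rw [B.zero_act] at this
    exact this.symm
  obtain ⟨g, hg, -⟩ := hD a q ha
  suffices hg0 : g = 0 by rwa [← hg0]
  obtain ⟨R, hR, hdiv⟩ := hQ T q
  refine sep_zero hR fun T' f hf => ?_
  obtain ⟨q', hq'⟩ := hdiv f hf
  rw [map_zero]
  set a' := P.obj.map f.op a with ha'
  have han : n • a' = 0 := by rw [ha', ← map_zsmul, ha, map_zero]
  -- additivity in the second variable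
  choose D hDspec hDuniq using fun b : Q.obj.obj (op T') => hD a' b han
  have hadd : ∀ b c, D (b + c) = D b + D c := fun b c => by
    refine (hDuniq (b + c) _ ?_).symm
    have h00 : B.πP T' (W T' 0 b) = B.πP T' (W T' 0 c) := by rw [πP_w, πP_w]
    have haa : B.πP T' (W T' a' b) = B.πP T' (W T' a' c) := by rw [πP_w, πP_w]
    have e1 : B.πP T' (W T' 0 b) = B.πP T' (B.act T' (D c) (W T' 0 c)) := h00.trans (B.πP_act T' _ _).symm
    show B.act T' (D b + D c) (W T' 0 (b + c)) = W T' a' (b + c)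
    rw [show W T' 0 (b + c) = B.add₂ T' _ _ h00 from w_add₂ n m B B' φ σ' 0 b c h00,
      show W T' a' (b + c) = B.add₂ T' _ _ haa from w_add₂ n m B B' φ σ' a' b c haa,
      add₂_congr B (hDspec b).symm (hDspec c).symm haa ((B.πP_act T' _ _).trans e1),
      B.add₂_act T' (D b) (W T' 0 b) _ e1, B.add₂_comm T' (W T' 0 b) _ e1,
      B.add₂_act T' (D c) (W T' 0 c) _ h00.symm, B.add₂_comm T' (W T' 0 c) _ h00.symm, ← B.add_act]
  -- and in the first
  have hmul : ∀ (k : ℕ) (g : G.obj.obj (op T')), B.act T' g (W T' 0 q') = W T' a' q' →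
      B.act T' (k • g) (W T' 0 q') = W T' (k • a') q' := by
    intro k g hg
    induction k with
    | zero => rw [zero_smul, zero_smul, B.zero_act]
    | succ k ih =>
      rw [succ_nsmul' a', add_comm a', succ_nsmul g, add_comm (k • g), B.add_act, ih, hshift (k • a') a' q' g hg]
  let Dh : Q.obj.obj (op T') →+ G.obj.obj (op T') := AddMonoidHom.mk' D hadd
  have hgf : G.obj.map f.op g = n • D q' := by
    rw [show n • D q' = D (n • q') from (map_zsmul Dh n q').symm]
    refine hDuniq (n • q') _ ?_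
    show B.act T' _ (W T' 0 (n • q')) = _
    have := congrArg (B.E.obj.map f.op) hg
    rw [B.act_map, w_map, w_map, map_zero, ← hq'] at this
    exact this
  rw [hgf]
  obtain ⟨k, hk | hk⟩ := Int.eq_nat_or_neg n
  · rw [hk, natCast_zsmul]
    rw [hk, natCast_zsmul] at han
    refine act_inj B (x := W T' 0 q') ?_
    rw [hmul k _ (hDspec q'), han, B.zero_act]
  · rw [hk, neg_smul, natCast_zsmul, neg_eq_zero]
    rw [hk, neg_smul, natCast_zsmul, neg_eq_zero] at han
    refine act_inj B (x := W T' 0 q') ?_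
    rw [hmul k _ (hDspec q'), han, B.zero_act]

include σ' in
/-- Changing `q'` by an element killed by `m` does not change `w`. -/
theorem indep_right (hP : LocDiv P m) {T : C} (p : P.obj.obj (op T)) (q b : Q.obj.obj (op T)) (hb : m • b = 0) :
    w n m B B' φ σ' T p (q + b) = w n m B B' φ σ' T p q := by
  let W := w n m B B' φ σ'
  have hD : ∀ {T : C} (p : P.obj.obj (op T)) (b : Q.obj.obj (op T)), m • b = 0 →
      ∃! g : G.obj.obj (op T), B.act T g (W T p 0) = W T p b := fun {T} p b hb =>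
    B.existsUnique_act T _ _ (by rw [πP_w, πP_w]) (by rw [πQ_w, πQ_w, smul_zero, hb])
  have hshift : ∀ {T : C} (p : P.obj.obj (op T)) (q b : Q.obj.obj (op T)) (g : G.obj.obj (op T)),
      B.act T g (W T p 0) = W T p b → B.act T g (W T p q) = W T p (q + b) := by
    intro T p q b g hg
    have h0 : B.πP T (W T p q) = B.πP T (W T p 0) := by rw [πP_w, πP_w]
    have h1 : B.πP T (W T p q) = B.πP T (W T p b) := by rw [πP_w, πP_w]
    have hh : B.πP T (B.act T g (W T p 0)) = B.πP T (W T p q) := (B.πP_act T g _).trans h0.symm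
    rw [show W T p (q + b) = B.add₂ T (W T p q) (W T p b) h1 from w_add₂ n m B B' φ σ' p q b h1,
      add₂_congr B rfl hg.symm h1 hh.symm, B.add₂_comm T (W T p q) _ hh.symm, B.add₂_act T g (W T p 0) (W T p q) h0.symm,
      ← w_add₂ n m B B' φ σ' p 0 q h0.symm, zero_add]
  suffices h : B.act T 0 (W T p 0) = W T p b by
    have := hshift p q b 0 h
    rw [B.zero_act] at this
    exact this.symm
  obtain ⟨g, hg, -⟩ := hD p b hb
  suffices hg0 : g = 0 by rwa [← hg0]
  obtain ⟨R, hR, hdiv⟩ := hP T p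
  refine sep_zero hR fun T' f hf => ?_
  obtain ⟨p', hp'⟩ := hdiv f hf
  rw [map_zero]
  set b' := Q.obj.map f.op b with hb'
  have hbm : m • b' = 0 := by rw [hb', ← map_zsmul, hb, map_zero]
  choose D hDspec hDuniq using fun a : P.obj.obj (op T') => hD a b' hbm
  have hadd : ∀ a c, D (a + c) = D a + D c := fun a c => by
    refine (hDuniq (a + c) _ ?_).symm
    have h00 : B.πQ T' (W T' a 0) = B.πQ T' (W T' c 0) := by rw [πQ_w, πQ_w]
    have haa : B.πQ T' (W T' a b') = B.πQ T' (W T' c b') := by rw [πQ_w, πQ_w]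
    have e1 : B.πQ T' (W T' a 0) = B.πQ T' (B.act T' (D c) (W T' c 0)) := h00.trans (B.πQ_act T' _ _).symm
    show B.act T' (D a + D c) (W T' (a + c) 0) = W T' (a + c) b'
    rw [show W T' (a + c) 0 = B.add₁ T' _ _ h00 from w_add₁ n m B B' φ σ' a c 0 h00,
      show W T' (a + c) b' = B.add₁ T' _ _ haa from w_add₁ n m B B' φ σ' a c b' haa,
      add₁_congr B (hDspec a).symm (hDspec c).symm haa ((B.πQ_act T' _ _).trans e1),
      B.add₁_act T' (D a) (W T' a 0) _ e1, B.add₁_comm T' (W T' a 0) _ e1,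
      B.add₁_act T' (D c) (W T' c 0) _ h00.symm, B.add₁_comm T' (W T' c 0) _ h00.symm, ← B.add_act]
  have hmul : ∀ (k : ℕ) (g : G.obj.obj (op T')), B.act T' g (W T' p' 0) = W T' p' b' →
      B.act T' (k • g) (W T' p' 0) = W T' p' (k • b') := by
    intro k g hg
    induction k with
    | zero => rw [zero_smul, zero_smul, B.zero_act]
    | succ k ih =>
      rw [succ_nsmul' b', add_comm b', succ_nsmul g, add_comm (k • g), B.add_act, ih, hshift p' (k • b') b' g hg]
  let Dh : P.obj.obj (op T') →+ G.obj.obj (op T') := AddMonoidHom.mk' D hadd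
  have hgf : G.obj.map f.op g = m • D p' := by
    rw [show m • D p' = D (m • p') from (map_zsmul Dh m p').symm]
    refine hDuniq (m • p') _ ?_
    show B.act T' _ (W T' (m • p') 0) = _
    have := congrArg (B.E.obj.map f.op) hg
    rw [B.act_map, w_map, w_map, map_zero, ← hp'] at this
    exact this
  rw [hgf]
  obtain ⟨k, hk | hk⟩ := Int.eq_nat_or_neg m
  · rw [hk, natCast_zsmul]
    rw [hk, natCast_zsmul] at hbm
    refine act_inj B (x := W T' p' 0) ?_
    rw [hmul k _ (hDspec p'), hbm, B.zero_act]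
  · rw [hk, neg_smul, natCast_zsmul, neg_eq_zero]
    rw [hk, neg_smul, natCast_zsmul, neg_eq_zero] at hbm
    refine act_inj B (x := W T' p' 0) ?_
    rw [hmul k _ (hDspec p'), hbm, B.zero_act]

include φ σ' in
/-- `B` is trivial. -/
theorem isTrivial (hPn : LocDiv P n) (hPm : LocDiv P m) (hQn : LocDiv Q n) (hQm : LocDiv Q m) :
    Biext.IsTrivial J B := by
  let W := w n m B B' φ σ'
  have indep : ∀ {T : C} (p p₁ : P.obj.obj (op T)) (q q₁ : Q.obj.obj (op T)),
      n • p = n • p₁ → m • q = m • q₁ → W T p q = W T p₁ q₁ := by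
    intro T p p₁ q q₁ hp hq
    have e1 := indep_left n m B B' φ σ' hQn p (p₁ - p) q (by rw [smul_sub, hp, sub_self])
    have e2 := indep_right n m B B' φ σ' hPm p₁ q (q₁ - q) (by rw [smul_sub, hq, sub_self])
    rw [add_sub_cancel] at e1 e2
    exact (e1.symm.trans e2.symm)
  have glue : ∀ (T : C) (p : P.obj.obj (op T)) (q : Q.obj.obj (op T)), ∃ e : B.E.obj.obj (op T),
      ∀ ⦃T' : C⦄ (f : T' ⟶ T) (p' : P.obj.obj (op T')) (q' : Q.obj.obj (op T')),
        n • p' = P.obj.map f.op p → m • q' = Q.obj.map f.op q → B.E.obj.map f.op e = W T' p' q' := by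
    intro T p q
    obtain ⟨R₁, hR₁, h₁⟩ := hPn T p
    obtain ⟨R₂, hR₂, h₂⟩ := hQm T q
    have hR : R₁ ⊓ R₂ ∈ J T := J.intersection_covering hR₁ hR₂
    choose p' hp' using h₁
    choose q' hq' using h₂
    let fam : Presieve.FamilyOfElements B.E.obj (R₁ ⊓ R₂ : Sieve T).arrows := fun T' f hf =>
      W T' (p' f hf.1) (q' f hf.2)
    have hfam : fam.Compatible := by
      intro T₁ T₂ Z g₁ g₂ f₁ f₂ hf₁ hf₂ h
      show B.E.obj.map g₁.op (W T₁ _ _) = B.E.obj.map g₂.op (W T₂ _ _)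
      rw [w_map, w_map]
      refine indep _ _ _ _ ?_ ?_
      · rw [← map_zsmul, ← map_zsmul, hp', hp']
        show (P.obj.map f₁.op ≫ P.obj.map g₁.op) p = (P.obj.map f₂.op ≫ P.obj.map g₂.op) p
        rw [← Functor.map_comp, ← Functor.map_comp, ← op_comp, ← op_comp, h]
      · rw [← map_zsmul, ← map_zsmul, hq', hq']
        show (Q.obj.map f₁.op ≫ Q.obj.map g₁.op) q = (Q.obj.map f₂.op ≫ Q.obj.map g₂.op) q
        rw [← Functor.map_comp, ← Functor.map_comp, ← op_comp, ← op_comp, h]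
    have hsh := ((isSheaf_iff_isSheaf_of_type J _).1 B.E.property) _ hR
    refine ⟨hsh.amalgamate fam hfam, fun T₁ f a b ha hb => ?_⟩
    refine sep_E B (J.pullback_stable f hR) fun T₂ g hg => ?_
    have := hsh.valid_glue hfam (g ≫ f) hg
    rw [w_map]
    rw [show B.E.obj.map g.op (B.E.obj.map f.op (hsh.amalgamate fam hfam)) =
      B.E.obj.map (g ≫ f).op (hsh.amalgamate fam hfam) from by rw [op_comp, Functor.map_comp]; rfl, this]
    refine indep _ _ _ _ ?_ ?_
    · rw [hp', ← map_zsmul, ha, op_comp, Functor.map_comp]; rfl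
    · rw [hq', ← map_zsmul, hb, op_comp, Functor.map_comp]; rfl
  choose σ hσ using glue
  refine ⟨{ σ := σ, πP_σ := ?_, πQ_σ := ?_, σ_map := ?_, σ_add₁ := ?_, σ_add₂ := ?_ }⟩
  · intro T p q
    obtain ⟨R₁, hR₁, h₁⟩ := hPn T p
    obtain ⟨R₂, hR₂, h₂⟩ := hQm T q
    refine sep_zero (J.intersection_covering hR₁ hR₂) fun T' f hf => ?_
    obtain ⟨a, ha⟩ := h₁ f hf.1
    obtain ⟨b, hb⟩ := h₂ f hf.2
    rw [← B.πP_map, hσ T p q f a b ha hb, πP_w, ha]
  · intro T p q
    obtain ⟨R₁, hR₁, h₁⟩ := hPn T p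
    obtain ⟨R₂, hR₂, h₂⟩ := hQm T q
    refine sep_zero (J.intersection_covering hR₁ hR₂) fun T' f hf => ?_
    obtain ⟨a, ha⟩ := h₁ f hf.1
    obtain ⟨b, hb⟩ := h₂ f hf.2
    rw [← B.πQ_map, hσ T p q f a b ha hb, πQ_w, hb]
  · intro T T₁ g p q
    obtain ⟨R₁, hR₁, h₁⟩ := hPn T₁ (P.obj.map g.op p)
    obtain ⟨R₂, hR₂, h₂⟩ := hQm T₁ (Q.obj.map g.op q)
    refine sep_E B (J.intersection_covering hR₁ hR₂) fun T' f hf => ?_
    obtain ⟨a, ha⟩ := h₁ f hf.1
    obtain ⟨b, hb⟩ := h₂ f hf.2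
    rw [hσ T₁ _ _ f a b ha hb]
    rw [show B.E.obj.map f.op (B.E.obj.map g.op (σ T p q)) = B.E.obj.map (f ≫ g).op (σ T p q) from by
      rw [op_comp, Functor.map_comp]; rfl]
    refine hσ T p q (f ≫ g) a b ?_ ?_
    · rw [ha, op_comp, Functor.map_comp]; rfl
    · rw [hb, op_comp, Functor.map_comp]; rfl
  · intro T p p₂ q
    obtain ⟨R₁, hR₁, h₁⟩ := hPn T p
    obtain ⟨R₂, hR₂, h₂⟩ := hQm T q
    obtain ⟨R₃, hR₃, h₃⟩ := hPn T p₂
    refine sep_E B (J.intersection_covering (J.intersection_covering hR₁ hR₂) hR₃) fun T' f hf => ?_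
    obtain ⟨a, ha⟩ := h₁ f hf.1.1
    obtain ⟨b, hb⟩ := h₂ f hf.1.2
    obtain ⟨c, hc⟩ := h₃ f hf.2
    rw [B.add₁_map, hσ T (p + p₂) q f (a + c) b (by rw [smul_add, ha, hc, map_add]) hb]
    refine (w_add₁ n m B B' φ σ' a c b (by rw [πQ_w, πQ_w])).trans ?_
    exact add₁_congr B (hσ T p q f a b ha hb).symm (hσ T p₂ q f c b hc hb).symm _ _
  · intro T p q q₂
    obtain ⟨R₁, hR₁, h₁⟩ := hPn T p
    obtain ⟨R₂, hR₂, h₂⟩ := hQm T q
    obtain ⟨R₃, hR₃, h₃⟩ := hQm T q₂
    refine sep_E B (J.intersection_covering (J.intersection_covering hR₁ hR₂) hR₃) fun T' f hf => ?_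
    obtain ⟨a, ha⟩ := h₁ f hf.1.1
    obtain ⟨b, hb⟩ := h₂ f hf.1.2
    obtain ⟨c, hc⟩ := h₃ f hf.2
    rw [B.add₂_map, hσ T p (q + q₂) f a (b + c) ha (by rw [smul_add, hb, hc, map_add])]
    refine (w_add₂ n m B B' φ σ' a b c (by rw [πP_w, πP_w])).trans ?_
    exact add₂_congr B (hσ T p q f a b ha hb).symm (hσ T p q₂ f a c ha hc).symm _ _

end Pair

/-- An epimorphic multiplication gives local divisibility. -/
theorem locDiv_of_locallySurjective (F : Sheaf J AddCommGrpCat.{u + 1}) (n : ℤ)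
    [h : Sheaf.IsLocallySurjective (n • 𝟙 F)] : LocDiv F n := by
  intro T p
  refine ⟨Presheaf.imageSieve (n • 𝟙 F).hom p, Presheaf.imageSieve_mem J (n • 𝟙 F).hom p, fun T' f hf => ?_⟩
  obtain ⟨t, ht⟩ := hf
  refine ⟨t, ?_⟩
  rw [← ht, zsmul_hom_app]
  rfl

end Groth.Agent.BiextDivLib
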